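import Cfsg.Agent.H334.TC.Rows
import Cfsg.Agent.H140.TC.Fam

/-!
# The rows `M22`, `M23`, `M24` of S4173 (helper334)
-/

set_option autoImplicit false

namespace Cfsg.Agent.H334.TC

open Cfsg

theorem tc_m22 {S : Type*} [Group S] (h : Spor.IsoM22 S) : Cfsg.Agent.H140.TC.TC S := (row3_m22 h).tc

theorem tc_m23 {S : Type*} [Group S] (h : Spor.IsoM23 S) : Cfsg.Agent.H140.TC.TC S := (row3_m23 h).tc

theorem tc_m24 {S : Type*} [Group S] (h : Spor.IsoM24 S) : Cfsg.Agent.H140.TC.TC S := (row3_m24 h).tc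

end Cfsg.Agent.H334.TC
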