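import Cfsg.Agent.H334.Ore.Pw
import Cfsg.Agent.H210.TC.Row

/-!
# Two fixed classes in the Mathieu groups (S4173, S2464; helper334): the engine
-/

set_option autoImplicit false
set_option linter.unusedSectionVars false

namespace Cfsg.Agent.H334.TC

open Cfsg Cfsg.Agent.H334.Ore.Mat Cfsg.Agent.H729.Trans Cfsg.Agent.H334.Ore.PwB
open Cfsg.Agent.SporadicStructure.M24El Cfsg.Agent.SporadicA.GolayPerm Cfsg.Agent.SporadicA.GolayBase

/-- The check of `r.c = a * b`, `a = u x u⁻¹`, `b = v y v⁻¹`; `w = (a, u, b, v)`. -/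
def chkU (F : List ℕ) (x y : ℕ) (r : Rec) (w : ℕ × ℕ × ℕ × ℕ) : Bool :=
  Nat.beq (pcomp w.1 w.2.2.1) r.c && (Nat.beq (pcomp w.1 w.2.1) (pcomp w.2.1 x) &&
    (Nat.beq (pcomp w.2.2.1 w.2.2.2) (pcomp w.2.2.2 y) && (inG F w.1 && (inG F w.2.1 &&
      (inG F w.2.2.1 && inG F w.2.2.2)))))

/-- The check of a list. -/
def chkAllU (F : List ℕ) (x y : ℕ) : List Rec → List (ℕ × ℕ × ℕ × ℕ) → Bool
  | [], [] => true
  | r :: D, w :: W => chkU F x y r w && chkAllU F x y D W
  | _, _ => false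

theorem exists_chkU {F : List ℕ} {x y : ℕ} : ∀ {D : List Rec} {W : List (ℕ × ℕ × ℕ × ℕ)}, chkAllU F x y D W = true →
    ∀ r ∈ D, ∃ w, chkU F x y r w = true := by
  intro D
  induction D with
  | nil => intro W _ r hr; exact absurd hr List.not_mem_nil
  | cons r D ih =>
    intro W h s hs
    cases W with
    | nil => exact Bool.noConfusion h
    | cons w W =>
      have h1 : chkU F x y r w = true ∧ chkAllU F x y D W = true := by
        have h2 : (chkU F x y r w && chkAllU F x y D W) = true := h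
        rwa [Bool.and_eq_true] at h2
      rcases List.mem_cons.1 hs with rfl | hs
      · exact ⟨w, h1.1⟩
      · exact ih h1.2 s hs

/-- The check of an element of order dividing `n`, `n` prime to `6`. -/
def chkO (F : List ℕ) (x n : ℕ) : Bool := inG F x && (Nat.beq (ppw x n) idP && Nat.beq (Nat.gcd n 6) 1)

theorem row3_of_data {G : Type*} [Group G] [Finite G] {φ : G →* M24} (hφ : Function.Injective φ) {F : List ℕ}
    (hmem : ∀ c : ℕ, ok c = true → (∀ b ∈ F, papp c b = b) → ∃ x : G, φ x = el c) (D : List Rec) {x n : ℕ}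
    {W : List (ℕ × ℕ × ℕ × ℕ)} (hn : n.Prime) (hW : chkAllU F x x D W = true) (hx : chkO F x n = true)
    (h1x : (List.range 24).any (fun i => !(Nat.beq (papp x i) i)) = true)
    (hcov : ∀ g : G, g = 1 ∨ ∃ r ∈ D, ∃ x : G, φ x = el r.c ∧ IsConj x g) : Cfsg.Agent.H210.TC.Row3 G := by
  unfold chkO at hx
  rw [Bool.and_eq_true, Bool.and_eq_true] at hx
  have h8 := inG_iff hx.1
  obtain ⟨X, hX⟩ := hmem _ h8.1 h8.2
  have hox := h8.1
  have hX1 : X ≠ 1 := by
    rintro rfl
    obtain ⟨i, hi, h⟩ := List.any_eq_true.1 h1x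
    have h2 := im_el hox (List.mem_range.1 hi)
    rw [← hX, map_one, im_one (List.mem_range.1 hi)] at h2
    rw [← h2, Nat.beq_refl] at h
    exact Bool.noConfusion h
  have hXn : X ^ n = 1 := by
    apply hφ
    rw [map_pow, hX, ← (el_ppw h8.1 n).2, Nat.eq_of_beq_eq_true hx.2.1, el_idP, map_one]
  have : Fact n.Prime := ⟨hn⟩
  have hord : orderOf X = n := orderOf_eq_prime hXn hX1
  refine Cfsg.Agent.H210.TC.Row3.of_sq (x := X) (by rw [hord]; exact hn)
    (by rw [hord]; exact Nat.eq_of_beq_eq_true hx.2.2) fun g hg => ?_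
  rcases hcov g with rfl | ⟨r, hr, c, hc, hcg⟩
  · exact absurd rfl hg
  · obtain ⟨w, hw⟩ := exists_chkU hW r hr
    unfold chkU at hw
    rw [Bool.and_eq_true, Bool.and_eq_true, Bool.and_eq_true, Bool.and_eq_true, Bool.and_eq_true, Bool.and_eq_true] at hw
    obtain ⟨h1, h2, h3, ha, hu, hb, hv⟩ := hw
    obtain ⟨a, ha'⟩ := hmem _ (inG_iff ha).1 (inG_iff ha).2
    obtain ⟨u, hu'⟩ := hmem _ (inG_iff hu).1 (inG_iff hu).2
    obtain ⟨b, hb'⟩ := hmem _ (inG_iff hb).1 (inG_iff hb).2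
    obtain ⟨v, hv'⟩ := hmem _ (inG_iff hv).1 (inG_iff hv).2
    have ea : a * u = u * X := by
      apply hφ
      rw [map_mul, map_mul, ha', hu', hX, ← el_pcomp (inG_iff ha).1 (inG_iff hu).1, Nat.eq_of_beq_eq_true h2,
        el_pcomp (inG_iff hu).1 hox]
    have eb : b * v = v * X := by
      apply hφ
      rw [map_mul, map_mul, hb', hv', hX, ← el_pcomp (inG_iff hb).1 (inG_iff hv).1, Nat.eq_of_beq_eq_true h3,
        el_pcomp (inG_iff hv).1 hox]
    have ec : c = a * b := by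
      apply hφ
      rw [map_mul, ha', hb', hc, ← el_pcomp (inG_iff ha).1 (inG_iff hb).1, Nat.eq_of_beq_eq_true h1]
    obtain ⟨k, hk⟩ := isConj_iff.1 hcg
    refine ⟨k * u, k * v, ?_⟩
    have ea' : a = u * X * u⁻¹ := by rw [← ea, mul_inv_cancel_right]
    have eb' : b = v * X * v⁻¹ := by rw [← eb, mul_inv_cancel_right]
    rw [← hk, ec, ea', eb']
    group

end Cfsg.Agent.H334.TC
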