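import Cfsg.Agent.H334.TC.Eng
import Cfsg.Agent.H334.Ore.M22Data

/-!
# One fixed class for `M22` (S4173, S2464, S2452; helper334): the data
-/

set_option autoImplicit false
set_option Elab.async false

namespace Cfsg.Agent.H334.TC.M22T

open Cfsg.Agent.H334.Ore Cfsg.Agent.H334.Ore.Mat Cfsg.Agent.H334.Ore.PwB Cfsg.Agent.H334.TC

def X : ℕ := 973927421301535459106453854890594400

def W : List (ℕ × ℕ × ℕ × ℕ) := [(964686758106578551770017657193711680, 975514760955473150332378702496211008, 968855309618167736727450553066693184, 978354570402364371630312473405706304),
  (963747937917840802435262913547131520, 969239830041229344936049161311298240, 965890822977207968023468887089067456, 978329692106316285575188279644834880),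
  (975121942807662244022793019297175232, 973764151997393966964606972653159072, 979284730111389692634733192191235584, 963224790508668744428302719983984704),
  (983469565673555262003976897451707616, 958128684069464874606985576244988544, 971498310404395361723633813185445952, 966179837287314584282477190611354752),
  (958270985453689715229406508674764480, 961919265525920739417432785932696928, 981438601422012161030060784353656512, 978357692489226938020272445966499904),
  (965058771331994470530942063150126400, 967112960824892674894887256976872672, 983457884175860601735050160531417152, 977062443172569160574087399385516160),
  (976735546849477483226790890987313472, 978807641889231118036814362731332704, 967884726615402721134761780234952864, 970192004751370140445208468701494304),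
  (958735955323870519600351720973319360, 963795395532186070587562875720157344, 975612210391869818947751214383279616, 968588388233980157217884057262999616),
  (976974134100052125076715248071296416, 979369450322567600748732234738342944, 979097080039007810382275951858063680, 966300349053403612126268089571820576),
  (963837997091745943356094340972194976, 974416836540036963379502029125993664, 981670134240625275355789257721594464, 968461040845350489055836381231039648),
  (980946480020929109696130953222598912, 974262589463123050809132420154204800, 980294787024296515006523737711495648, 969930263421173571305956755722705952)]

theorem hW : chkAllU M22Data.F X X M22Data.D W = true := by decide +kernel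

theorem hX : chkO M22Data.F X 11 = true := by decide +kernel


theorem h1 : (List.range 24).any (fun i => !(Nat.beq (Cfsg.Agent.SporadicA.GolayPerm.papp X i) i)) = true := by
  decide +kernel

end Cfsg.Agent.H334.TC.M22T
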