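import Cfsg.Agent.H334.TC.Eng
import Cfsg.Agent.H334.Ore.M23Data

/-!
# One fixed class for `M23` (S4173, S2464, S2452; helper334): the data
-/

set_option autoImplicit false
set_option Elab.async false

namespace Cfsg.Agent.H334.TC.M23T

open Cfsg.Agent.H334.Ore Cfsg.Agent.H334.Ore.Mat Cfsg.Agent.H334.Ore.PwB Cfsg.Agent.H334.TC

def X : ℕ := 982252470930009687161553335856700853

def W : List (ℕ × ℕ × ℕ × ℕ) := [(983314558965791705375801854165069198, 959492689910529724500680581078634887, 960994853479373877475745753548232933, 972483494155271159849957753199636736),
  (967513074175575412654188235726438868, 967981151451437089974572838711382158, 962695024885321253985823152890550979, 980186808555743802276554206165083360),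
  (963596014260450268246791528089947723, 962620257463528856519944154453313729, 955928155541370478580066235147425322, 961003994467273053877490805100329120),
  (969998057387603836029027896554692084, 959703548972236571724120317469143687, 977672105551838451791832964365601206, 978360223460319703021202639393436288),
  (972259068197164072560586854484285802, 968375501039834206163941446392338709, 962161004337484385742973394146835858, 972989341370129459705232104812104832),
  (974314215058557298779807014938945063, 972501864721912438440696397890651747, 980262979130346845043844086864985345, 965820555294065366747761561360341600),
  (982683280227504080555961595790109028, 984454386185521156172359302461332806, 968383815088866644091750823143876134, 971227710191044817222727460658916896),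
  (959542307396257089812499659257895376, 968500848816352961827218757375902006, 975033269544449860032406774065831598, 976731605487744298121147722600894688),
  (965380999964889145765914731225462860, 956006468765773614354283123218361428, 979574720448574176872605919478874473, 968746512961654513929283366433492096),
  (983065801126021720669194916352774767, 979019753121168139407100903207175301, 965118430235829526042636985653962926, 958559975976790699461536080462029376),
  (957352931461965983410171332249333773, 965006801856486498008632918897973312, 983022798234368208832707023466076395, 975303969827472754940620876636817536),
  (956174073494065260452794809865034023, 976978326438828816197551186093811918, 962341552436398548611422818493126670, 967653622539726375611761826682049600),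
  (963563234605365392185673615361460615, 972561398995621257680976154154020224, 958637992829929812346003958920675534, 968938054612371522296675673408330368),
  (980549504905278023965878011533263339, 981604380045173113687680537455069355, 982088860992438442395760492084402510, 971539431921516796572931761265387680),
  (976449272401627316413423098777386597, 979154446911904047730804361055939732, 967762911797846131384736897164301555, 969136679480723150522309592408774912),
  (963272639282305265828335061964082861, 957437825935949566950522906205466726, 976605247282068319428031011411674386, 971716981688268995024908104417453312)]

theorem hW : chkAllU M23Data.F X X M23Data.D W = true := by decide +kernel

theorem hX : chkO M23Data.F X 23 = true := by decide +kernel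


theorem h1 : (List.range 24).any (fun i => !(Nat.beq (Cfsg.Agent.SporadicA.GolayPerm.papp X i) i)) = true := by
  decide +kernel

end Cfsg.Agent.H334.TC.M23T
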