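import Cfsg.Agent.H334.Ore.M22
import Cfsg.Agent.H334.Ore.M23
import Cfsg.Agent.H334.Ore.M24
import Cfsg.Agent.H334.TC.M22
import Cfsg.Agent.H334.TC.M23
import Cfsg.Agent.H334.TC.M24

/-!
# One fixed class in `M22`, `M23`, `M24` (S4173, S2464, S2452; helper334)

Every nonidentity element is a product of two conjugates of `x`, `x` in 11A (`M22`), 23A (`M23`), 23A (`M24`).
-/

set_option autoImplicit false

namespace Cfsg.Agent.H334.TC

open Cfsg Cfsg.Agent.H334.Ore Cfsg.Agent.H210.TC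

/-- **The row `M22`.** -/
theorem row3_m22 {S : Type*} [Group S] (h : Spor.IsoM22 S) : Row3 S := by
  obtain ⟨e⟩ := h
  exact Row3.of_equiv e
    (row3_of_data Cfsg.Agent.H729.M22Deg.inc_injective Ore.M22.hmem M22Data.D (by norm_num) M22T.hW M22T.hX M22T.h1
      Ore.M22.cov)

/-- **The row `M23`.** -/
theorem row3_m23 {S : Type*} [Group S] (h : Spor.IsoM23 S) : Row3 S := by
  obtain ⟨e⟩ := h
  exact Row3.of_equiv e
    (row3_of_data Ore.M23.inc23_injective Ore.M23.hmem M23Data.D (by norm_num) M23T.hW M23T.hX M23T.h1 Ore.M23.cov)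

/-- **The row `M24`.** -/
theorem row3_m24 {S : Type*} [Group S] (h : Spor.IsoM24 S) : Row3 S := by
  obtain ⟨e⟩ := h
  exact Row3.of_equiv e
    (row3_of_data Ore.M24R.id_injective Ore.M24R.hmem M24Data.D (by norm_num) M24T.hW M24T.hX M24T.h1 Ore.M24R.cov)

end Cfsg.Agent.H334.TC
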